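import Cfsg.Agent.Lib.FourSizes.Basic

/-!
Averaging over a conjugacy class inside an abelian coset, and an action lemma of Thompson type.
-/

set_option autoImplicit false

namespace Cfsg.Agent.Lib.FourSizes

open Subgroup Cfsg.Agent.Lib.ClassSizeTop

variable {G : Type*} [Group G] [Finite G]

/-- If `t` is conjugate inside `t V` only a number of times prime to its order then some `t τ` is
fixed by everything preserving `t V`. -/
theorem exists_fixed_mul (V : Subgroup G) (hV : V.Normal) (hab : ∀ a ∈ V, ∀ b ∈ V, a * b = b * a)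
    (t : G) (hcop : (idx t).Coprime (orderOf t))
    (hord : ∀ g : G, t⁻¹ * (g * t * g⁻¹) ∈ V → (t⁻¹ * (g * t * g⁻¹)) ^ orderOf t = 1) :
    ∃ τ ∈ V, ∀ g : G, t⁻¹ * (g * t * g⁻¹) ∈ V → g ∈ C (t * τ) := by
  classical
  letI : CommGroup V := { (inferInstance : Group V) with
    mul_comm := fun a b => Subtype.ext (hab a a.2 b b.2) }
  let S : Subgroup G :=
    { carrier := {g | t⁻¹ * (g * t * g⁻¹) ∈ V}
      one_mem' := by simp
      mul_mem' := fun {a b} ha hb => by
        show t⁻¹ * (a * b * t * (a * b)⁻¹) ∈ V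
        rw [show t⁻¹ * (a * b * t * (a * b)⁻¹) =
          t⁻¹ * (a * t * a⁻¹) * (a * (t⁻¹ * (b * t * b⁻¹)) * a⁻¹) by group]
        exact mul_mem ha (hV.conj_mem _ hb a)
      inv_mem' := fun {a} ha => by
        show t⁻¹ * (a⁻¹ * t * a⁻¹⁻¹) ∈ V
        rw [show t⁻¹ * (a⁻¹ * t * a⁻¹⁻¹) = a⁻¹ * (t⁻¹ * (a * t * a⁻¹))⁻¹ * a⁻¹⁻¹ * 1 *
          (t⁻¹ * (a⁻¹ * t * a⁻¹⁻¹) * (a⁻¹ * (t⁻¹ * (a * t * a⁻¹))⁻¹ * a⁻¹⁻¹)⁻¹) by group]
        have e : t⁻¹ * (a⁻¹ * t * a⁻¹⁻¹) * (a⁻¹ * (t⁻¹ * (a * t * a⁻¹))⁻¹ * a⁻¹⁻¹)⁻¹ = 1 := by group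
        rw [e, mul_one, mul_one]
        exact hV.conj_mem _ (inv_mem ha) a⁻¹ }
  have hCS : C t ≤ S := fun g hg => by
    show t⁻¹ * (g * t * g⁻¹) ∈ V
    rw [mem_cent_iff_conj.1 hg, inv_mul_cancel]
    exact one_mem _
  let f : S → V := fun g => ⟨t⁻¹ * ((g : G) * t * (g : G)⁻¹), g.2⟩
  let ψ : S → V →* V := fun g =>
    { toFun := fun v => ⟨(g : G) * v * (g : G)⁻¹, hV.conj_mem _ v.2 g⟩
      map_one' := Subtype.ext (by simp)
      map_mul' := fun a b => Subtype.ext (by simp only [Subgroup.coe_mul]; group) }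
  have hf : ∀ g k : S, f (g * k) = f g * ψ g (f k) := fun g k => Subtype.ext (by
    show t⁻¹ * (((g : G) * k) * t * ((g : G) * k)⁻¹) =
      t⁻¹ * ((g : G) * t * (g : G)⁻¹) * ((g : G) * (t⁻¹ * ((k : G) * t * (k : G)⁻¹)) * (g : G)⁻¹)
    group)
  have hf1 : ∀ c : S, c ∈ (C t).subgroupOf S → f c = 1 := fun c hc => Subtype.ext (by
    show t⁻¹ * ((c : G) * t * (c : G)⁻¹) = 1
    rw [mem_cent_iff_conj.1 (mem_subgroupOf.1 hc), inv_mul_cancel])
  let K := (C t).subgroupOf S
  haveI : Fintype (S ⧸ K) := Fintype.ofFinite _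
  let π : V := ∏ q : S ⧸ K, f q.out
  let k := Fintype.card (S ⧸ K)
  have hπ : ∀ g : S, π = f g ^ k * ψ g π := by
    intro g
    have e : ∀ q : S ⧸ K, f (g • q).out = f g * ψ g (f q.out) := by
      intro q
      obtain ⟨c, hc⟩ := QuotientGroup.mk_out_eq_mul K (g * q.out)
      have : g • q = QuotientGroup.mk (g * q.out) := by
        conv_lhs => rw [← QuotientGroup.out_eq' q]
        rfl
      rw [this, hc, hf, hf1 _ c.2, map_one, mul_one, hf]
    calc π = ∏ q : S ⧸ K, f (g • q).out := (Equiv.prod_comp (MulAction.toPerm g) fun q : S ⧸ K => f q.out).symm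
      _ = ∏ q : S ⧸ K, (f g * ψ g (f q.out)) := Finset.prod_congr rfl fun q _ => e q
      _ = f g ^ k * ψ g π := by
        rw [Finset.prod_mul_distrib, Finset.prod_const, Finset.card_univ, map_prod]
  have hkd : k ∣ idx t := by
    have : k = (C t).relIndex S := by
      show Fintype.card (S ⧸ K) = _
      rw [← Nat.card_eq_fintype_card, ← Subgroup.index_eq_card]
      rfl
    rw [this]
    exact Dvd.intro _ (relIndex_mul_index hCS)
  obtain ⟨e, he⟩ : ∃ e : ℕ, ∀ v : V, v ^ orderOf t = 1 → (v ^ k) ^ e = v := by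
    rcases Nat.lt_or_ge 1 (orderOf t) with h1 | h1
    · obtain ⟨e, -, he⟩ := Nat.exists_mul_mod_eq_one_of_coprime
        (Nat.Coprime.coprime_dvd_left hkd hcop) h1
      refine ⟨e, fun v hv => ?_⟩
      rw [← pow_mul, ← Nat.mod_add_div (k * e) (orderOf t), he, pow_add, pow_one, pow_mul, hv,
        one_pow, mul_one]
    · refine ⟨1, fun v hv => ?_⟩
      have : orderOf t = 1 := by have := orderOf_pos t; omega
      rw [this, pow_one] at hv
      simp [hv]
  refine ⟨(π ^ e : V), (π ^ e).2, fun g hg => ?_⟩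
  have h1 : f ⟨g, hg⟩ ^ orderOf t = 1 := Subtype.ext (by simpa [f] using hord g hg)
  have h2 : π ^ e = f ⟨g, hg⟩ * ψ ⟨g, hg⟩ (π ^ e) := by
    conv_lhs => rw [hπ ⟨g, hg⟩]
    rw [mul_pow, he _ h1, map_pow]
  rw [mem_cent_iff_conj]
  have h3 : ((π ^ e : V) : G) = t⁻¹ * (g * t * g⁻¹) * (g * ((π ^ e : V) : G) * g⁻¹) :=
    congrArg Subtype.val h2
  conv_rhs => rw [h3]
  group

/-- A coprime automorphism fixing a self-centralising subgroup of a `p`-group is trivial. -/
theorem cent_of_fix_selfCentralizing {p : ℕ} [Fact p.Prime] {T : Subgroup G} (hT : IsPGroup p T)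
    {h : G} (hN : h ∈ normalizer (T : Set G)) (hco : (orderOf h).Coprime p) :
    ∀ U : Subgroup G, U ≤ T → h ∈ centralizer (U : Set G) → T ⊓ centralizer (U : Set G) ≤ U →
      h ∈ centralizer (T : Set G) := by
  intro U
  induction hk : Nat.card T - Nat.card U using Nat.strong_induction_on generalizing U with
  | _ k ih =>
    intro hUT hfix hself
    rcases eq_or_lt_of_le hUT with rfl | hlt
    · exact hfix
    haveI := hT.isNilpotent
    have hne : U.subgroupOf T < ⊤ := lt_top_iff_ne_top.2 fun e => hlt.not_ge (subgroupOf_eq_top.1 e)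
    have hgrow := Group.normalizerCondition_of_isNilpotent (G := T) (U.subgroupOf T) hne
    let N := T ⊓ normalizer (U : Set G)
    have hUN : U < N := by
      refine lt_of_le_of_ne (le_inf hUT le_normalizer) fun e => ?_
      refine hgrow.not_ge fun v hv => ?_
      rw [mem_subgroupOf]
      refine (SetLike.ext_iff.1 e _).2 ⟨v.2, ?_⟩
      rw [mem_normalizer_iff] at hv
      show (v : G) ∈ normalizer (U : Set G)
      rw [mem_normalizer_iff]
      intro w
      constructor
      · intro hw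
        exact ((hv ⟨w, hUT hw⟩).1 (by exact hw) : _)
      · intro hw
        have hwT : w ∈ T := by
          have := T.mul_mem (T.mul_mem (T.inv_mem v.2) (hUT hw)) v.2
          simpa [mul_assoc] using this
        exact (hv ⟨w, hwT⟩).2 hw
    have hfixN : h ∈ centralizer (N : Set G) := by
      rw [mem_centralizer_iff]
      intro u hu
      obtain ⟨huT, huN⟩ := mem_inf.1 hu
      set c := h * u * h⁻¹ * u⁻¹ with hc
      have hcT : c ∈ T := T.mul_mem ((mem_normalizer_iff.1 hN u).1 huT) (T.inv_mem huT)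
      have hcU : c ∈ U := hself ⟨hcT, by
        show c ∈ centralizer (U : Set G)
        rw [mem_centralizer_iff]
        intro w hw
        have e0 : ∀ w ∈ U, h * w * h⁻¹ = w := fun w hw => by
          rw [← mem_centralizer_iff.1 hfix w hw, mul_inv_cancel_right]
        have hwu : u⁻¹ * w * u ∈ U := by
          have := (mem_normalizer_iff.1 (inv_mem huN) w).1 hw
          simpa using this
        have e1 := e0 _ hwu
        have e2 := e0 _ hw
        calc w * c = (h * w * h⁻¹) * (h * u * h⁻¹ * u⁻¹) := by rw [e2]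
          _ = h * u * h⁻¹ * (h * (u⁻¹ * w * u) * h⁻¹) * u⁻¹ := by group
          _ = c * w := by rw [e1, hc]; group⟩
      have hch : Commute c h := mem_centralizer_iff.1 hfix c hcU
      have key : ∀ i : ℕ, h ^ i * u * (h ^ i)⁻¹ = c ^ i * u := by
        intro i
        induction i with
        | zero => simp
        | succ i ihi =>
          calc h ^ (i + 1) * u * (h ^ (i + 1))⁻¹ = h * (h ^ i * u * (h ^ i)⁻¹) * h⁻¹ := by
                rw [pow_succ']; group
            _ = (h * c ^ i * h⁻¹) * (c * u) := by rw [ihi, hc]; group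
            _ = c ^ (i + 1) * u := by
                rw [← (hch.pow_left i).eq, mul_inv_cancel_right, ← mul_assoc, pow_succ]
      have h0 := key (orderOf h)
      rw [pow_orderOf_eq_one, one_mul, inv_one, mul_one, right_eq_mul] at h0
      have hc1 : c = 1 := by
        obtain ⟨j, hj⟩ := IsPGroup.iff_orderOf.1 hT ⟨c, hcT⟩
        rw [← Subgroup.orderOf_coe] at hj
        have hdvd : orderOf c ∣ orderOf h := orderOf_dvd_of_pow_eq_one h0
        refine orderOf_eq_one_iff.1 (Nat.Coprime.eq_one_of_dvd ?_ hdvd)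
        rw [show orderOf c = p ^ j from hj]
        exact hco.symm.pow_left j
      have := mul_inv_eq_one.1 (hc.symm.trans hc1)
      exact (mul_inv_eq_iff_eq_mul.1 this).symm
    have hle : N ≤ T := inf_le_left
    refine ih (Nat.card T - Nat.card N) ?_ N rfl hle hfixN ?_
    · have h1 : Nat.card U < Nat.card N := by
        refine lt_of_le_of_ne (Nat.le_of_dvd Nat.card_pos (card_dvd_of_le hUN.le)) fun e => hUN.ne ?_
        exact eq_of_le_of_card_ge hUN.le e.ge
      have h2 : Nat.card N ≤ Nat.card T := Nat.le_of_dvd Nat.card_pos (card_dvd_of_le hle)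
      omega
    · exact fun v hv => hUN.le (hself ⟨hv.1, centralizer_le hUN.le hv.2⟩)

end Cfsg.Agent.Lib.FourSizes
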