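import Cfsg.Agent.Lib.ClassSizeTop.Basic
import Cfsg.Agent.Lib.ClassSize.Cover

/-!
Tools for class sizes `{1, m, n, mn}`: primary elements and conjugation into subgroups.
-/

set_option autoImplicit false

namespace Cfsg.Agent.Lib.FourSizes

open Subgroup Cfsg.Agent.Lib.ClassSizeTop

variable {G : Type*} [Group G]

abbrev C (x : G) : Subgroup G := centralizer ({x} : Set G)

/-- `r`-elements. -/
def PElem (r : ℕ) (v : G) : Prop := ∃ k : ℕ, orderOf v = r ^ k

theorem pelem_conj {r : ℕ} {v : G} (h : PElem r v) (g : G) : PElem r (g * v * g⁻¹) := by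
  obtain ⟨k, hk⟩ := h
  exact ⟨k, by rw [← hk]; exact orderOf_injective (MulAut.conj g).toMonoidHom (MulAut.conj g).injective v⟩

theorem pelem_coprime {r s : ℕ} {a b : G} (hr : r.Prime) (hs : s.Prime) (hne : r ≠ s)
    (ha : PElem r a) (hb : PElem s b) : (orderOf a).Coprime (orderOf b) := by
  obtain ⟨i, hi⟩ := ha
  obtain ⟨j, hj⟩ := hb
  rw [hi, hj]
  exact Nat.Coprime.pow i j ((Nat.coprime_primes hr hs).2 hne)

theorem pelem_of_pow_eq_one {r k : ℕ} {c : G} (hr : r.Prime) (h : c ^ r ^ k = 1) : PElem r c := by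
  obtain ⟨j, -, hj⟩ := (Nat.dvd_prime_pow hr).1 (orderOf_dvd_of_pow_eq_one h)
  exact ⟨j, hj⟩

theorem mem_C_comm {x y : G} : y ∈ C x ↔ x ∈ C y := by rw [mem_cent, mem_cent, eq_comm]

theorem conj_mem_C {g x y : G} (h : y ∈ C x) : g * y * g⁻¹ ∈ C (g * x * g⁻¹) := by
  rw [mem_cent] at h ⊢
  calc g * y * g⁻¹ * (g * x * g⁻¹) = g * (y * x) * g⁻¹ := by group
    _ = g * x * g⁻¹ * (g * y * g⁻¹) := by rw [h]; group

variable [Finite G]

theorem not_dvd_index_of_forall {G : Type*} [Group G] [Finite G] {r : ℕ} [Fact r.Prime]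
    (U : Subgroup G) (h : ∀ y : G, PElem r y → y ∈ U) : ¬ r ∣ U.index := by
  let P : Sylow r G := default
  intro hd
  apply P.not_dvd_index
  refine hd.trans (Subgroup.index_dvd_of_le fun y hy => h y ?_)
  obtain ⟨k, hk⟩ := IsPGroup.iff_orderOf.1 P.isPGroup' ⟨y, hy⟩
  exact ⟨k, by rw [← Subgroup.orderOf_coe] at hk; exact hk⟩

theorem le_of_not_dvd {K L : Subgroup G} (h : ∀ r : ℕ, r.Prime → ¬ r ∣ L.relIndex K) : K ≤ L := by
  have : L.relIndex K = 1 := by
    by_contra hne
    obtain ⟨r, hr, hd⟩ := Nat.exists_prime_and_dvd hne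
    exact h r hr hd
  exact relIndex_eq_one.1 this

theorem not_dvd_relIndex_of_forall {r : ℕ} [Fact r.Prime] {K L : Subgroup G}
    (h : ∀ v ∈ K, PElem r v → v ∈ L) : ¬ r ∣ L.relIndex K :=
  not_dvd_index_of_forall (L.subgroupOf K) fun v ⟨k, hk⟩ =>
    h v v.2 ⟨k, by rw [Subgroup.orderOf_coe]; exact hk⟩

theorem le_of_primary {K L : Subgroup G} (h : ∀ r : ℕ, r.Prime → ∀ v ∈ K, PElem r v → v ∈ L) :
    K ≤ L :=
  le_of_not_dvd fun r hr => by
    haveI := Fact.mk hr
    exact not_dvd_relIndex_of_forall (h r hr)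

theorem exists_primary_noncentral {x : G} (hx : x ∉ center G) :
    ∃ r, r.Prime ∧ ∃ v ∈ zpowers x, PElem r v ∧ v ∉ center G := by
  by_contra hc
  push Not at hc
  exact hx (le_of_primary (K := zpowers x) (fun r hr v hv hp => hc r hr v hv hp) (mem_zpowers x))

theorem conj_into_sub {r : ℕ} [Fact r.Prime] {c : G} (hc : PElem r c) {A B : Subgroup G}
    (hcB : c ∈ B) (hr : ¬ r ∣ A.relIndex B) : ∃ g ∈ B, g * c * g⁻¹ ∈ A := by
  obtain ⟨k, hk⟩ := hc
  let c' : B := ⟨c, hcB⟩
  have hP : IsPGroup r (zpowers c') :=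
    IsPGroup.of_card (n := k) (by rw [Nat.card_zpowers, Subgroup.orderOf_mk, hk])
  obtain ⟨q, hq⟩ := hP.nonempty_fixed_point_of_prime_not_dvd_card (B ⧸ A.subgroupOf B)
    (by rw [← Subgroup.index_eq_card]; exact hr)
  refine ⟨(q.out : B)⁻¹, B.inv_mem q.out.2, ?_⟩
  have e : (c' • q : B ⧸ A.subgroupOf B) = q := hq ⟨c', mem_zpowers c'⟩
  conv_lhs at e => rw [← QuotientGroup.out_eq' q, MulAction.Quotient.smul_mk, smul_eq_mul]
  conv_rhs at e => rw [← QuotientGroup.out_eq' q]
  have := QuotientGroup.eq.1 e.symm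
  rw [mem_subgroupOf] at this
  simpa [c', mul_assoc] using this

theorem conj_into {r : ℕ} [Fact r.Prime] {c : G} (hc : PElem r c) {A : Subgroup G}
    (hr : ¬ r ∣ A.index) : ∃ g : G, g * c * g⁻¹ ∈ A := by
  obtain ⟨g, -, hg⟩ := conj_into_sub (A := A) (B := ⊤) hc (mem_top c) (by rwa [relIndex_top_right])
  exact ⟨g, hg⟩

/-- A `p`-element centralising a Sylow subgroup lies in it. -/
theorem mem_sylow_of_le_cent {p : ℕ} [Fact p.Prime] {x : G} (hx : PElem p x) (P : Sylow p G)
    (h : (P : Subgroup G) ≤ C x) : x ∈ (P : Subgroup G) := by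
  let B := (P : Subgroup G) ⊔ zpowers x
  have hB : B ≤ C x := sup_le h (zpowers_le.2 (mem_cent.2 rfl))
  obtain ⟨g, hg, hgx⟩ := conj_into_sub hx (A := (P : Subgroup G)) (B := B)
    (mem_sup_right (mem_zpowers x))
    (fun hd => P.not_dvd_index (hd.trans
      (relIndex_mul_index (show (P : Subgroup G) ≤ B from le_sup_left) ▸ dvd_mul_right _ _)))
  rwa [mem_cent_iff_conj.1 (mem_C_comm.1 (mem_C_comm.1 (hB hg)))] at hgx

/-- In a cyclic group, elements of order dividing that of `b` are powers of `b`. -/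
theorem mem_zpowers_of_dvd {z a b : G} (ha : a ∈ zpowers z) (hb : b ∈ zpowers z)
    (h : orderOf a ∣ orderOf b) : a ∈ zpowers b := by
  classical
  let a' : zpowers z := ⟨a, ha⟩
  let b' : zpowers z := ⟨b, hb⟩
  have : a' ∈ zpowers b' := by
    haveI : Fintype (zpowers z) := Fintype.ofFinite _
    have hpos : 0 < orderOf b' := orderOf_pos b'
    let S := Finset.univ.filter fun v : zpowers z => v ^ orderOf b' = 1
    have hsub : (Finset.univ.filter fun v : zpowers z => v ∈ zpowers b') ⊆ S := by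
      intro v hv
      simp only [S, Finset.mem_filter, Finset.mem_univ, true_and] at hv ⊢
      obtain ⟨i, rfl⟩ := hv
      show (b' ^ i) ^ orderOf b' = 1
      rw [← zpow_natCast, ← zpow_mul, mul_comm, zpow_mul, zpow_natCast, pow_orderOf_eq_one, one_zpow]
    have hcard : S.card ≤ (Finset.univ.filter fun v : zpowers z => v ∈ zpowers b').card := by
      refine (IsCyclic.card_pow_eq_one_le hpos).trans (le_of_eq ?_)
      rw [← Nat.card_zpowers b', Nat.card_eq_fintype_card, Fintype.card_subtype]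
    have haS : a' ∈ S := by
      simp only [S, Finset.mem_filter, Finset.mem_univ, true_and]
      refine orderOf_dvd_iff_pow_eq_one.1 ?_
      rw [Subgroup.orderOf_mk, Subgroup.orderOf_mk]
      exact h
    rw [← Finset.eq_of_subset_of_card_le hsub hcard] at haS
    simpa using haS
  obtain ⟨i, hi⟩ := this
  exact ⟨i, congrArg Subtype.val hi⟩

theorem idx_dvd_of_le {u v : G} (h : C u ≤ C v) : idx v ∣ idx u := index_dvd_of_le h

theorem cent_eq_of_le {u v : G} (h : C u ≤ C v) (hi : idx u ≤ idx v) : C u = C v :=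
  eq_of_le_of_index_le h hi

theorem relIndex_mul_idx {u v : G} (h : C u ≤ C v) : (C u).relIndex (C v) * idx v = idx u :=
  relIndex_mul_index h

/-- Class sizes exactly `1, m, n, mn`. -/
structure Sizes (G : Type*) [Group G] (m n : ℕ) : Prop where
  one_lt_m : 1 < m
  one_lt_n : 1 < n
  cop : m.Coprime n
  values : ∀ x : G, idx x = 1 ∨ idx x = m ∨ idx x = n ∨ idx x = m * n
  exists_m : ∃ x : G, idx x = m
  exists_n : ∃ x : G, idx x = n
  exists_mn : ∃ x : G, idx x = m * n

namespace Sizes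

variable {m n : ℕ} (h : Sizes G m n)
include h

omit [Finite G] in
theorem symm : Sizes G n m :=
  ⟨h.one_lt_n, h.one_lt_m, h.cop.symm,
    fun x => by rw [mul_comm n m]; rcases h.values x with e | e | e | e <;> simp [e],
    h.exists_n, h.exists_m, by rw [mul_comm n m]; exact h.exists_mn⟩

theorem not_central_m {x : G} (hx : idx x = m) : x ∉ center G := fun hc => by
  have := idx_eq_one_iff.2 hc
  have := h.one_lt_m
  omega

omit [Finite G] in
theorem not_dvd_both {r : ℕ} (hr : r.Prime) (h1 : r ∣ m) : ¬ r ∣ n := fun h2 =>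
  hr.not_dvd_one (h.cop ▸ Nat.dvd_gcd h1 h2)

theorem idx_le_mn (x : G) : idx x ≤ m * n := by
  have := h.one_lt_m; have := h.one_lt_n
  rcases h.values x with e | e | e | e <;> rw [e] <;> nlinarith

theorem cent_eq_of_mn {u v : G} (hle : C u ≤ C v) (hv : idx v = m * n) : C u = C v :=
  cent_eq_of_le hle ((h.idx_le_mn u).trans hv.ge)

theorem idx_ne_m_of_dvd_n {x : G} (hd : idx x ∣ m) (hx : x ∉ center G) : idx x = m := by
  have := h.one_lt_m; have := h.one_lt_n
  rcases h.values x with e | e | e | e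
  · exact absurd (idx_eq_one_iff.1 e) hx
  · exact e
  · exact absurd (Nat.Coprime.eq_one_of_dvd h.cop.symm (e ▸ hd)) (by omega)
  · exfalso
    have := Nat.le_of_dvd (by omega) (e ▸ hd)
    nlinarith

/-- Prime not dividing any class size. -/
theorem central_of_not_dvd {r : ℕ} (hr : r.Prime) (hm : ¬ r ∣ m) (hn : ¬ r ∣ n) {c : G}
    (hc : PElem r c) : c ∈ center G := by
  haveI := Fact.mk hr
  have : C c = ⊤ := by
    refine ClassSize.eq_top_of_forall_exists_conj_mem _ fun z => ?_
    obtain ⟨g, hg⟩ := conj_into hc (A := C z) (fun hd => by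
      rcases h.values z with e | e | e | e <;>
        rw [show (C z).index = idx z from rfl, e] at hd
      · exact hr.not_dvd_one hd
      · exact hm hd
      · exact hn hd
      · exact (hr.dvd_mul.1 hd).elim hm hn)
    refine ⟨g⁻¹, ?_⟩
    have := conj_mem_C (g := g⁻¹) (mem_C_comm.1 hg)
    simpa [mul_assoc] using this
  exact idx_eq_one_iff.1 (by show (C c).index = 1; rw [this, index_top])

theorem exists_primary_m : ∃ (p : ℕ) (x : G), p.Prime ∧ PElem p x ∧ idx x = m := by
  obtain ⟨x, hx⟩ := h.exists_m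
  obtain ⟨p, hp, v, hv, hpv, hvc⟩ := exists_primary_noncentral (h.not_central_m hx)
  exact ⟨p, v, hp, hpv,
    h.idx_ne_m_of_dvd_n (hx ▸ idx_dvd_of_le (cent_le_cent_of_mem_zpowers hv)) hvc⟩

/-- Conjugates of commuting elements of sizes `m`, `n` commute. -/
theorem all_conj_commute {x y : G} (hx : idx x = m) (hy : idx y = n) (hxy : y ∈ C x) (g : G) :
    g * y * g⁻¹ ∈ C x := by
  obtain ⟨b, hb, hba⟩ := ClassSize.exists_mem_mul_of_index_coprime (C y) (C x)
    (by show (idx y).Coprime (idx x); rw [hx, hy]; exact h.cop.symm) g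
  have e : g * y * g⁻¹ = b * y * b⁻¹ := by
    have e1 := mem_cent_iff_conj.1 hba
    calc g * y * g⁻¹ = b * ((b⁻¹ * g) * y * (b⁻¹ * g)⁻¹) * b⁻¹ := by group
      _ = b * y * b⁻¹ := by rw [e1]
  rw [e]
  exact mul_mem (mul_mem hb hxy) (inv_mem hb)

/-- An `m`-element commutes with every `n`-element of a prime not dividing `m`. -/
theorem comm_of_prime {x y : G} {r : ℕ} (hr : r.Prime) (hx : idx x = m) (hy : idx y = n)
    (hry : PElem r y) (hrm : ¬ r ∣ m) : y ∈ C x := by
  haveI := Fact.mk hr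
  obtain ⟨g, hg⟩ := conj_into hry (A := C x) (by show ¬ r ∣ idx x; rwa [hx])
  have := h.all_conj_commute hx (by rw [idx_conj]; exact hy) hg g⁻¹
  simpa [mul_assoc] using this

/-- A coprime element commuting with an element of size `mn` centralises its centraliser. -/
theorem absorb {w v : G} (hw : idx w = m * n) (hc : v ∈ C w)
    (hco : (orderOf w).Coprime (orderOf v)) : C w ≤ C v := by
  have hcom : Commute w v := (mem_cent.1 hc).symm
  have e : C (w * v) = C w ⊓ C v := cent_mul_of_coprime hcom hco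
  have e' := h.cent_eq_of_mn (u := w * v) (v := w) (e ▸ inf_le_left) hw
  rw [← e', e]
  exact inf_le_right

end Sizes

end Cfsg.Agent.Lib.FourSizes
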