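import Cfsg.Agent.Lib.FourSizes.Straight

/-!
Class sizes `{1, m, n, mn}`: the crossed case is impossible.
-/

set_option autoImplicit false

namespace Cfsg.Agent.Lib.FourSizes

open Subgroup Cfsg.Agent.Lib.ClassSizeTop

variable {G : Type*} [Group G] [Finite G]

/-- No prime power element has class size divisible by its prime. -/
structure Crossed (G : Type*) [Group G] (m n : ℕ) : Prop where
  left : ∀ (r : ℕ) (x : G), r.Prime → PElem r x → idx x = m → ¬ r ∣ m
  right : ∀ (r : ℕ) (x : G), r.Prime → PElem r x → idx x = n → ¬ r ∣ n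

/-- `x` is an element of prime power order and class size `k`. -/
def Prim (k : ℕ) (x : G) : Prop := ∃ r : ℕ, r.Prime ∧ PElem r x ∧ idx x = k

theorem prim_conj {k : ℕ} {x : G} (hx : Prim k x) (g : G) : Prim k (g * x * g⁻¹) := by
  obtain ⟨r, hr, hrx, hx⟩ := hx
  exact ⟨r, hr, pelem_conj hrx g, (idx_conj g x).trans hx⟩

theorem le_cent_of_parts {z : G} {K : Subgroup G}
    (hK : ∀ r : ℕ, r.Prime → ∀ v ∈ zpowers z, PElem r v → K ≤ C v) : K ≤ C z := fun k hk =>
  mem_C_comm.1 (le_of_primary (K := zpowers z) (L := C k)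
    (fun r hr v hv hp => mem_C_comm.1 (hK r hr v hv hp hk)) (mem_zpowers z))

namespace Sizes

variable {m n : ℕ} (h : Sizes G m n)
include h

theorem comm_conj_iff {x y : G} (hx : idx x = m) (hy : idx y = n) (g : G) :
    y ∈ C (g * x * g⁻¹) ↔ y ∈ C x := by
  refine ⟨fun hh => ?_, fun hh => mem_C_comm.1 (h.symm.all_conj_commute hy hx (mem_C_comm.1 hh) g)⟩
  have := h.symm.all_conj_commute hy ((idx_conj g x).trans hx) (mem_C_comm.1 hh) g⁻¹
  rw [show g⁻¹ * (g * x * g⁻¹) * g⁻¹⁻¹ = x by group] at this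
  exact mem_C_comm.1 this

/-- Mirror of `comm_conj_iff`. -/
theorem comm_conj_iff' {x y : G} (hx : idx x = m) (hy : idx y = n) (g : G) :
    x ∈ C (g * y * g⁻¹) ↔ x ∈ C y := h.symm.comm_conj_iff hy hx g

theorem relIndex_cases {z y : G} (hle : C z ≤ C y) (hy : idx y = n) :
    (C z).relIndex (C y) = 1 ∨ (C z).relIndex (C y) = m := by
  have e := relIndex_mul_idx hle
  rw [hy] at e
  have := h.one_lt_m; have := h.one_lt_n
  rcases h.values z with e1 | e1 | e1 | e1 <;> rw [e1] at e
  · have := Nat.eq_one_of_mul_eq_one_left e; omega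
  · have := Nat.Coprime.eq_one_of_dvd h.cop.symm (e ▸ dvd_mul_left n _)
    omega
  · exact Or.inl (Nat.eq_of_mul_eq_mul_right (show 0 < n by omega) (by rw [e, one_mul]))
  · exact Or.inr (Nat.eq_of_mul_eq_mul_right (show 0 < n by omega) e)

theorem conj_into_of_le {p : ℕ} (hp : p.Prime) (hpm : ¬ p ∣ m) {x z y : G} (hpx : PElem p x)
    (hxy : x ∈ C y) (hle : C z ≤ C y) (hy : idx y = n) : ∃ g : G, g * x * g⁻¹ ∈ C z := by
  haveI := Fact.mk hp
  obtain ⟨g, -, hg⟩ := conj_into_sub hpx (A := C z) (B := C y) hxy fun hd => by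
    rcases h.relIndex_cases hle hy with e | e <;> rw [e] at hd
    · exact hp.not_dvd_one hd
    · exact hpm hd
  exact ⟨g, hg⟩

theorem idx_n_of_inf {u v : G} (hu : idx u = n) (hle : C v ≤ C u) : idx v = n ∨ idx v = m * n := by
  have := h.one_lt_m; have := h.one_lt_n
  have hd := idx_dvd_of_le hle
  rw [hu] at hd
  rcases h.values v with e | e | e | e
  · rw [e] at hd; have := Nat.eq_one_of_dvd_one hd; omega
  · rw [e] at hd; have := Nat.Coprime.eq_one_of_dvd h.cop.symm hd; omega
  · exact Or.inl e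
  · exact Or.inr e

/-- Commutation with an `n`-element passes between commuting `m`-elements of coprime order. -/
theorem same_prime {q : ℕ} (hq : q.Prime) (hqn : ¬ q ∣ n) {a b y : G} (ha : idx a = m)
    (hb : idx b = m) (hab : a ∈ C b) (hco : (orderOf a).Coprime (orderOf b)) (hqy : PElem q y)
    (hy : idx y = n) (hya : y ∈ C a) : y ∈ C b := by
  haveI := Fact.mk hq
  have e : C (a * b) = C a ⊓ C b := cent_mul_of_coprime (mem_cent.1 hab) hco
  obtain ⟨g, -, hg⟩ := conj_into_sub hqy (A := C (a * b)) (B := C a) hya fun hd => by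
    rcases h.symm.relIndex_cases (e ▸ inf_le_left : C (a * b) ≤ C a) ha with e1 | e1 <;>
      rw [e1] at hd
    · exact hq.not_dvd_one hd
    · exact hqn hd
  have := h.all_conj_commute hb ((idx_conj g y).trans hy) (e ▸ hg : g * y * g⁻¹ ∈ C a ⊓ C b).2 g⁻¹
  simpa [mul_assoc] using this

/-- An element of size `mn` inside the centraliser of a conjugate of an `n`-element. -/
theorem exists_le_conj (hcr : Crossed G m n) {r q : ℕ} (hr : r.Prime) (hq : q.Prime) {w y : G}
    (hrw : PElem r w) (hw : idx w = m * n) (hqy : PElem q y) (hy : idx y = n)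
    (hor : ¬ r ∣ n ∨ w ∈ C y) : ∃ g : G, C w ≤ C (g * y * g⁻¹) := by
  haveI := Fact.mk hr
  haveI := Fact.mk hq
  obtain ⟨g, hg⟩ : ∃ g : G, w ∈ C (g * y * g⁻¹) := by
    rcases hor with h1 | h1
    · obtain ⟨g, hg⟩ := conj_into hrw (A := C y) (by show ¬ r ∣ idx y; rwa [hy])
      refine ⟨g⁻¹, ?_⟩
      have := conj_mem_C (g := g⁻¹) hg
      simpa [mul_assoc] using this
    · exact ⟨1, by simpa using h1⟩
  by_cases hrq : r = q
  · subst hrq
    let S0 : Sylow r (C w) := default
    let S := (S0 : Subgroup (C w)).map (C w).subtype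
    obtain ⟨Q, hQ⟩ := ClassSize.exists_sylow_le_centralizer (x := y) (p := r)
      (by show ¬ r ∣ idx y; rw [hy]; exact hcr.right r y hr hqy hy)
    obtain ⟨Q', hQ'⟩ := (S0.isPGroup'.map (C w).subtype : IsPGroup r S).exists_le_sylow
    obtain ⟨d, hd⟩ := MulAction.exists_smul_eq G Q Q'
    refine ⟨d, ?_⟩
    have hS : S ≤ C (d * y * d⁻¹) := fun v hv => by
      have := hQ' hv
      rw [← hd, Sylow.coe_subgroup_smul, Subgroup.mem_pointwise_smul_iff_inv_smul_mem] at this
      have := conj_mem_C (g := d) (hQ this)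
      simpa [MulAut.smul_def, mul_assoc] using this
    have hwS : w ∈ S := by
      refine ⟨⟨w, mem_cent.2 rfl⟩, ?_, rfl⟩
      obtain ⟨k, hk⟩ := hrw
      refine mem_sylow_of_le_cent ⟨k, by rw [Subgroup.orderOf_mk, hk]⟩ S0 fun v _ => ?_
      exact mem_cent.2 (Subtype.ext (mem_cent.1 v.2))
    refine le_of_not_dvd fun s hs => ?_
    haveI := Fact.mk hs
    by_cases hsr : s = r
    · subst hsr
      intro hd'
      apply S0.not_dvd_index
      refine hd'.trans (Subgroup.index_dvd_of_le fun v hv => ?_)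
      exact mem_subgroupOf.2 (hS (mem_map_of_mem _ hv))
    · refine not_dvd_relIndex_of_forall fun v hv hsv => ?_
      exact mem_C_comm.1 (h.absorb hw hv (pelem_coprime hr hs (Ne.symm hsr) hrw hsv)
        (mem_C_comm.1 (hS hwS)))
  · exact ⟨g, h.absorb hw (mem_C_comm.1 hg) (pelem_coprime hr hq hrq hrw (pelem_conj hqy g))⟩

omit h in
theorem prime_ne (hcr : Crossed G m n) (h' : Sizes G m n) {p q : ℕ} (hp : p.Prime) (hq : q.Prime)
    {x y : G} (hpx : PElem p x) (hx : idx x = m) (hqy : PElem q y) (hy : idx y = n) : p ≠ q := by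
  rintro rfl
  exact h'.not_central_m hx
    (h'.central_of_not_dvd hp (hcr.left p x hp hpx hx) (hcr.right p y hp hqy hy) hpx)

/-- No prime power element of size `m` commutes with all those of size `n`. -/
theorem not_comm_all (hcr : Crossed G m n) {p : ℕ} (hp : p.Prime) {x : G} (hpx : PElem p x)
    (hx : idx x = m) (hall : ∀ y, Prim n y → y ∈ C x) : False := by
  haveI := Fact.mk hp
  have hpm := hcr.left p x hp hpx hx
  have hcov : C x = ⊤ := by
    refine ClassSize.eq_top_of_forall_exists_conj_mem _ fun z => ?_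
    suffices ∃ g : G, g * x * g⁻¹ ∈ C z by
      obtain ⟨g, hg⟩ := this
      refine ⟨g⁻¹, ?_⟩
      have := conj_mem_C (g := g⁻¹) (mem_C_comm.1 hg)
      simpa [mul_assoc] using this
    by_cases hz : ¬ p ∣ idx z
    · exact conj_into hpx hz
    push Not at hz
    have hz' : idx z ≠ m := fun e => hpm (e ▸ hz)
    have hle : ∀ v ∈ zpowers z, C z ≤ C v := fun v hv => cent_le_cent_of_mem_zpowers hv
    by_cases hn : ∃ v ∈ zpowers z, Prim n v
    · obtain ⟨v, hv, hvn⟩ := hn
      have hxv := mem_C_comm.1 (hall v hvn)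
      obtain ⟨r, hr, hrv, hvn⟩ := hvn
      exact h.conj_into_of_le hp hpm hpx hxv (hle v hv) hvn
    obtain ⟨q, y, hq, hqy, hy⟩ := h.symm.exists_primary_m
    by_cases hmn : ∃ r, r.Prime ∧ ∃ v ∈ zpowers z, PElem r v ∧ idx v = m * n
    · obtain ⟨r, hr, w, hw, hrw, hwmn⟩ := hmn
      rw [h.cent_eq_of_mn (hle w hw) hwmn]
      by_cases hrm : r ∣ m
      · obtain ⟨g, hg⟩ := h.exists_le_conj hcr hr hq hrw hwmn hqy hy (Or.inl (h.not_dvd_both hr hrm))
        exact h.conj_into_of_le hp hpm hpx (mem_C_comm.1 (hall _ (prim_conj ⟨q, hq, hqy, hy⟩ g))) hg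
          ((idx_conj g y).trans hy)
      · haveI := Fact.mk hr
        obtain ⟨g, hg⟩ := conj_into hrw (A := C x) (by show ¬ r ∣ idx x; rwa [hx])
        refine ⟨g⁻¹, ?_⟩
        have := conj_mem_C (g := g⁻¹) (mem_C_comm.1 hg)
        simpa [mul_assoc] using this
    have hparts : ∀ r, r.Prime → ∀ v ∈ zpowers z, PElem r v → v ∈ center G ∨ idx v = m := by
      intro r hr v hv hrv
      rcases h.values v with e | e | e | e
      · exact Or.inl (idx_eq_one_iff.1 e)
      · exact Or.inr e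
      · exact absurd ⟨v, hv, r, hr, hrv, e⟩ hn
      · exact absurd ⟨r, hr, v, hv, hrv, e⟩ hmn
    have hzc : z ∉ center G := fun hc => by
      rw [idx_eq_one_iff.2 hc] at hz
      exact hp.not_dvd_one hz
    obtain ⟨ra, hra, a, ha, hpa, hac⟩ := exists_primary_noncentral hzc
    have ham := (hparts ra hra a ha hpa).resolve_left hac
    obtain ⟨rb, hrb, b, hb, hpb, hbm, hne⟩ : ∃ rb, rb.Prime ∧ ∃ b ∈ zpowers z,
        PElem rb b ∧ idx b = m ∧ C b ≠ C a := by
      by_contra hcon
      push Not at hcon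
      have hsub : C a ≤ C z := by
        refine le_cent_of_parts fun r hr v hv hrv => ?_
        rcases hparts r hr v hv hrv with hc | hm'
        · exact fun k _ => mem_cent.2 (mem_center_iff.1 hc k)
        · exact (hcon r hr v hv hrv hm').ge
      refine hz' (h.idx_ne_m_of_dvd_n (ham ▸ idx_dvd_of_le hsub) hzc)
    have hab : ra ≠ rb := by
      rintro rfl
      obtain ⟨i, hi⟩ := hpa
      obtain ⟨j, hj⟩ := hpb
      rcases le_total i j with hij | hij
      · exact hne (cent_eq_of_le (cent_le_cent_of_mem_zpowers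
          (mem_zpowers_of_dvd ha hb (hi ▸ hj ▸ pow_dvd_pow ra hij))) (by rw [hbm, ham]))
      · exact hne (cent_eq_of_le (cent_le_cent_of_mem_zpowers
          (mem_zpowers_of_dvd hb ha (hi ▸ hj ▸ pow_dvd_pow ra hij))) (by rw [hbm, ham])).symm
    have hcom : Commute a b := by
      obtain ⟨i, rfl⟩ := ha
      obtain ⟨j, rfl⟩ := hb
      exact Commute.zpow_zpow_self z i j
    -- both commute with `y`
    have step : ∀ r, r.Prime → r ≠ p → ∀ c, PElem r c → idx c = m → y ∈ C c := by
      intro r hr hrp c hrc hcm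
      obtain ⟨g, hg⟩ := conj_into hpx (A := C c) (by show ¬ p ∣ idx c; rwa [hcm])
      refine h.same_prime hq (hcr.right q y hq hqy hy) ((idx_conj g x).trans hx) hcm hg
        (pelem_coprime hp hr hrp.symm (pelem_conj hpx g) hrc) hqy hy ?_
      exact (h.comm_conj_iff hx hy g).2 (hall y ⟨q, hq, hqy, hy⟩)
    have hqn := hcr.right q y hq hqy hy
    have hco := pelem_coprime hra hrb hab hpa hpb
    have hyab : y ∈ C a ∧ y ∈ C b := by
      by_cases hap : ra = p
      · have := step rb hrb (fun e => hab (hap.trans e.symm)) b hpb hbm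
        exact ⟨h.same_prime hq hqn hbm ham (mem_cent.2 hcom.symm.eq) hco.symm hqy hy this, this⟩
      · have := step ra hra hap a hpa ham
        exact ⟨this, h.same_prime hq hqn ham hbm (mem_cent.2 hcom.eq) hco hqy hy this⟩
    have e : C (a * b) = C a ⊓ C b := cent_mul_of_coprime hcom hco
    have habmn : idx (a * b) = m * n := by
      rcases h.symm.idx_n_of_inf ham (e ▸ inf_le_left : C (a * b) ≤ C a) with e1 | e1
      · exfalso
        have ea := cent_eq_of_le (e ▸ inf_le_left : C (a * b) ≤ C a) (by rw [e1, ham])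
        have eb := cent_eq_of_le (e ▸ inf_le_right : C (a * b) ≤ C b) (by rw [e1, hbm])
        exact hne (eb.symm.trans ea)
      · rw [e1, mul_comm]
    have hzab : C z = C (a * b) := h.cent_eq_of_mn (e ▸ le_inf (hle a ha) (hle b hb)) habmn
    have hcoy : (orderOf (a * b)).Coprime (orderOf y) := by
      rw [hcom.orderOf_mul_eq_mul_orderOf_of_coprime hco]
      exact (pelem_coprime hra hq (prime_ne hcr h hra hq hpa ham hqy hy) hpa hqy).mul_left
        (pelem_coprime hrb hq (prime_ne hcr h hrb hq hpb hbm hqy hy) hpb hqy)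
    rw [hzab]
    exact h.conj_into_of_le hp hpm hpx (mem_C_comm.1 (hall y ⟨q, hq, hqy, hy⟩))
      (h.absorb habmn (e ▸ mem_inf.2 hyab) hcoy) hy
  refine h.not_central_m hx (idx_eq_one_iff.1 ?_)
  show (C x).index = 1
  rw [hcov, index_top]

/-- If `x` and `y` do not commute, some `p`-element of size `m` commutes with `y`. -/
theorem exists_pelem_of_noncomm (hcr : Crossed G m n) {p q : ℕ} (hp : p.Prime) (hq : q.Prime)
    {x y : G} (hpx : PElem p x) (hx : idx x = m) (hqy : PElem q y) (hy : idx y = n)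
    (hxy : y ∉ C x) : ∃ w, PElem p w ∧ w ∈ C y ∧ idx w = m := by
  haveI := Fact.mk hp
  have hpm := hcr.left p x hp hpx hx
  have hpq := prime_ne hcr h hp hq hpx hx hqy hy
  by_contra hcon
  push Not at hcon
  have hcen : ∀ w, PElem p w → w ∈ C y → w ∈ center G := by
    intro w hpw hwy
    rcases h.values w with e | e | e | e
    · exact idx_eq_one_iff.1 e
    · exact absurd e (hcon w hpw hwy)
    · exact h.central_of_not_dvd hp hpm (hcr.right p w hp hpw e) hpw
    · exfalso
      obtain ⟨g, hg⟩ := conj_into hpw (A := C x) (by show ¬ p ∣ idx x; rwa [hx])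
      have h1 := conj_mem_C (g := g⁻¹) (mem_C_comm.1 hg)
      rw [show g⁻¹ * (g * w * g⁻¹) * g⁻¹⁻¹ = w by group] at h1
      exact hxy ((h.comm_conj_iff hx hy g⁻¹).1
        (mem_C_comm.1 (h.absorb e (mem_C_comm.1 hwy) (pelem_coprime hp hq hpq hpw hqy) h1)))
  have hZy : ¬ p ∣ (center G).relIndex (C y) :=
    not_dvd_relIndex_of_forall fun v hv hpv => hcen v hpv hv
  have hZe : ∀ e : G, idx e = m * n → ∀ v ∈ C e, PElem p v → v ∈ center G := by
    intro e he v hv hpv
    have hle : ∀ u : G, center G ≤ C u := fun u k hk => mem_cent.2 (mem_center_iff.1 hk u).symm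
    have e1 : (center G).relIndex (C e) * idx e = (center G).index := relIndex_mul_index (hle e)
    have e2 : (center G).relIndex (C y) * idx y = (center G).index := relIndex_mul_index (hle y)
    rw [he] at e1
    rw [hy, ← e1, ← mul_assoc] at e2
    have e3 := Nat.eq_of_mul_eq_mul_right (by have := h.one_lt_n; omega) e2
    obtain ⟨g, -, hg⟩ := conj_into_sub hpv (A := center G) (B := C e) hv
      fun hd => hZy (e3 ▸ hd.mul_right m)
    have := mem_center_iff.1 hg g
    rw [show g * (g * v * g⁻¹) = g * g * v * g⁻¹ by group,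
      show g * v * g⁻¹ * g = g * v by group] at this
    have hgv : g * v * g⁻¹ = v := by
      calc g * v * g⁻¹ = g⁻¹ * (g * g * v * g⁻¹) := by group
        _ = v := by rw [this]; group
    rwa [hgv] at hg
  have hle : C x ⊓ C y ≤ center G := by
    refine le_of_primary fun r hr v hv hrv => ?_
    obtain ⟨hvx, hvy⟩ := mem_inf.1 hv
    by_cases hrp : r = p
    · subst hrp; exact hcen v hrv hvy
    by_contra hvc
    have hcom : Commute x v := (mem_cent.1 hvx).symm
    have e : C (x * v) = C x ⊓ C v :=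
      cent_mul_of_coprime hcom (pelem_coprime hp hr (Ne.symm hrp) hpx hrv)
    rcases h.symm.idx_n_of_inf hx (e ▸ inf_le_left : C (x * v) ≤ C x) with e1 | e1
    · have ex := cent_eq_of_le (e ▸ inf_le_left : C (x * v) ≤ C x) (by rw [e1, hx])
      have hxv : C x ≤ C v := ex ▸ (e ▸ inf_le_right : C (x * v) ≤ C v)
      have hvm := h.idx_ne_m_of_dvd_n (hx ▸ idx_dvd_of_le hxv) hvc
      exact hxy ((cent_eq_of_le hxv (by rw [hx, hvm])).symm ▸ mem_C_comm.1 hvy)
    · refine h.not_central_m hx (hZe (x * v) (e1.trans (mul_comm n m)) x ?_ hpx)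
      exact mem_cent.2 ((Commute.refl x).mul_right hcom).eq
  obtain ⟨e, he⟩ := h.exists_mn
  have h1 : (C x ⊓ C y).index = m * n := by
    rw [index_inf_of_coprime (A := C x) (B := C y)
      (by show (idx x).Coprime (idx y); rw [hx, hy]; exact h.cop)]
    exact congrArg₂ (· * ·) hx hy
  have h2 : (center G).index ≤ m * n := by
    rw [← h1]
    exact Nat.le_of_dvd (Nat.pos_of_ne_zero FiniteIndex.index_ne_zero) (index_dvd_of_le hle)
  have h3 : center G = C e :=
    eq_of_le_of_index_le (fun k hk => mem_cent.2 (mem_center_iff.1 hk e).symm) (h2.trans he.ge)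
  have he1 : e ∈ center G := h3 ▸ mem_cent.2 rfl
  rw [idx_eq_one_iff.2 he1] at he
  have := h.one_lt_m; have := h.one_lt_n
  nlinarith

set_option maxHeartbeats 1600000 in
theorem crossed_false (hcr : Crossed G m n) : False := by
  classical
  let Bset : G → Set G := fun x => {y | Prim n y ∧ y ∈ C x}
  obtain ⟨p0, x0, hp0, hpx0, hx0⟩ := h.exists_primary_m
  obtain ⟨x1, ⟨p, hp, hpx1, hx1⟩, hmax⟩ := (Set.toFinite {x : G | Prim m x}).exists_maximalFor
    (fun x => (Bset x).ncard) _ ⟨x0, p0, hp0, hpx0, hx0⟩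
  haveI := Fact.mk hp
  have hmax' : ∀ t, Prim m t → ¬ Bset x1 ⊂ Bset t := fun t ht hlt =>
    (Set.ncard_lt_ncard hlt (Set.toFinite _)).not_ge (hmax ht (Set.ncard_le_ncard hlt.le (Set.toFinite _)))
  obtain ⟨y, ⟨q, hq, hqy, hy⟩, hxy1⟩ : ∃ y, Prim n y ∧ y ∉ C x1 := by
    by_contra hcon
    push Not at hcon
    exact h.not_comm_all hcr hp hpx1 hx1 hcon
  haveI := Fact.mk hq
  obtain ⟨w, hpw, hwy, hw⟩ := h.exists_pelem_of_noncomm hcr hp hq hpx1 hx1 hqy hy hxy1
  have hpm := hcr.left p x1 hp hpx1 hx1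
  have hpq := prime_ne hcr h hp hq hpx1 hx1 hqy hy
  have hqn := hcr.right q y hq hqy hy
  -- conjugate so that `x` and `w` commute
  obtain ⟨P, hP⟩ := ClassSize.exists_sylow_le_centralizer (x := w) (p := p)
    (by show ¬ p ∣ idx w; rwa [hw])
  obtain ⟨P1, hP1⟩ := ClassSize.exists_sylow_le_centralizer (x := x1) (p := p)
    (by show ¬ p ∣ idx x1; rwa [hx1])
  obtain ⟨d, hd⟩ := MulAction.exists_smul_eq G P1 P
  obtain ⟨x, hxdef⟩ : ∃ x, x = d * x1 * d⁻¹ := ⟨_, rfl⟩
  have hpx : PElem p x := hxdef ▸ pelem_conj hpx1 d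
  have hx : idx x = m := hxdef ▸ (idx_conj d x1).trans hx1
  have hPx : (P : Subgroup G) ≤ C x := fun v hv => by
    rw [← hd, Sylow.coe_subgroup_smul, Subgroup.mem_pointwise_smul_iff_inv_smul_mem] at hv
    have := conj_mem_C (g := d) (hP1 hv)
    simpa [MulAut.smul_def, mul_assoc, hxdef] using this
  have hBx : ∀ z, Prim n z → (z ∈ C x ↔ z ∈ C x1) := fun z ⟨_, _, _, hz⟩ =>
    hxdef ▸ h.comm_conj_iff hx1 hz d
  have hxy : y ∉ C x := fun hh => hxy1 ((hBx y ⟨q, hq, hqy, hy⟩).1 hh)
  have hwx : w ∈ C x := hPx (mem_sylow_of_le_cent hpw P hP)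
  obtain ⟨b, hqb, hbx, hb⟩ := h.symm.exists_pelem_of_noncomm ⟨hcr.right, hcr.left⟩ hq hp hqy hy hpx hx
    (fun hh => hxy (mem_C_comm.1 hh))
  let X := normalClosure ({x} : Set G)
  let W := normalClosure ({w} : Set G)
  let M := X ⊓ W
  haveI : M.Normal := inferInstanceAs (X ⊓ W).Normal
  have hclos : ∀ a c : G, (∀ g : G, g * a * g⁻¹ ∈ C c) → normalClosure ({a} : Set G) ≤ C c := by
    intro a c hac
    refine (closure_le _).2 fun v hv => ?_
    obtain ⟨a', ha', hconj⟩ := Group.mem_conjugatesOfSet_iff.1 hv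
    rw [Set.mem_singleton_iff] at ha'
    obtain ⟨g, rfl⟩ := isConj_iff.1 hconj
    rw [ha']
    exact hac g
  have hXB : ∀ z, Prim n z → z ∈ C x → X ≤ C z := fun z ⟨_, _, _, hz⟩ hzx =>
    hclos x z fun g => h.symm.all_conj_commute hz hx (mem_C_comm.1 hzx) g
  have hWy : W ≤ C y := hclos w y fun g => h.symm.all_conj_commute hy hw hwy g
  have hMy : M ≤ C y := inf_le_right.trans hWy
  have hMb : M ≤ C b := inf_le_left.trans (hXB b ⟨q, hq, hqb, hb⟩ hbx)
  have hprimary : ∀ r, r.Prime → ∀ t ∈ M, PElem r t → t ∈ center G ∨ idx t = n := by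
    intro r hr t ht hrt
    rcases h.values t with e | e | e | e
    · exact Or.inl (idx_eq_one_iff.1 e)
    · exfalso
      refine hmax' t ⟨r, hr, hrt, e⟩ ((Set.ssubset_iff_of_subset ?_).2 ⟨y, ?_, ?_⟩)
      · rintro z ⟨hz, hzx⟩
        exact ⟨hz, mem_C_comm.1 (hXB z hz ((hBx z hz).2 hzx) (mem_inf.1 ht).1)⟩
      · exact ⟨⟨q, hq, hqy, hy⟩, mem_C_comm.1 (hMy ht)⟩
      · exact fun hh => hxy1 hh.2
    · exact Or.inr e
    · exfalso
      obtain ⟨g1, hg1⟩ := h.exists_le_conj hcr hr hq hrt e hqy hy (Or.inr (hMy ht))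
      obtain ⟨g2, hg2⟩ := h.exists_le_conj hcr hr hq hrt e hqb hb (Or.inr (hMb ht))
      obtain ⟨g, hg⟩ := h.conj_into_of_le hp hpm hpx
        ((h.comm_conj_iff' hx hb g2).2 (mem_C_comm.1 hbx)) hg2 ((idx_conj g2 b).trans hb)
      have h1 := (h.comm_conj_iff' ((idx_conj g x).trans hx) hy g1).1 (hg1 hg)
      exact hxy ((h.comm_conj_iff hx hy g).1 (mem_C_comm.1 h1))
  have hMx : M ≤ C x := by
    refine le_of_primary fun r hr t ht hrt => ?_
    rcases hprimary r hr t ht hrt with hc | htn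
    · exact mem_cent.2 (mem_center_iff.1 hc x).symm
    by_contra htx
    by_cases hrq : r = q
    swap
    · exact htx (mem_C_comm.1 (h.symm.same_prime hp hpm hb htn (mem_C_comm.1 (hMb ht))
        (pelem_coprime hq hr (Ne.symm hrq) hqb hrt) hpx hx (mem_C_comm.1 hbx)))
    subst hrq
    -- conjugate `b` so that it shares a Sylow subgroup with `t`
    obtain ⟨V, hVdef⟩ : ∃ V : Subgroup G, V = M ⊓ normalClosure ({b} : Set G) := ⟨_, rfl⟩
    have hVn : V.Normal := hVdef ▸ inferInstance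
    have hBxle : normalClosure ({b} : Set G) ≤ C x :=
      hclos b x fun g => h.all_conj_commute hx hb hbx g
    have hVX : ∀ v ∈ V, ∀ u ∈ X, u ∈ C v := by
      intro v hv u hu
      refine (hclos x v fun g => ?_) hu
      have h1 : g⁻¹ * v * g ∈ C x := by
        have := hVn.conj_mem v hv g⁻¹
        rw [inv_inv] at this
        exact hBxle (hVdef ▸ this : _ ∈ M ⊓ normalClosure ({b} : Set G)).2
      have := conj_mem_C (g := g) h1
      rw [show g * (g⁻¹ * v * g) * g⁻¹ = v by group] at this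
      exact mem_C_comm.1 this
    have hVle : V ≤ M := hVdef ▸ inf_le_left
    have hVab : ∀ a ∈ V, ∀ c ∈ V, a * c = c * a := fun a ha c hc =>
      mem_cent.1 (hVX c hc a (mem_inf.1 (hVle ha)).1)
    obtain ⟨k, hk⟩ := hrt
    obtain ⟨τ, hτ, hfix⟩ := exists_fixed_mul V hVn hVab t
      (by rw [htn, hk]; exact (((Nat.Prime.coprime_iff_not_dvd hq).2 hqn).pow_left k).symm)
      (fun g hg => by
        have hc1 : Commute t (t⁻¹ * (g * t * g⁻¹)) :=
          mem_cent.1 (hVX _ hg t (mem_inf.1 ht).1)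
        have := hc1.mul_pow (orderOf t)
        rwa [mul_inv_cancel_left, pow_orderOf_eq_one, one_mul,
          ← MulAut.conj_apply, ← map_pow, pow_orderOf_eq_one, map_one, eq_comm] at this)
    have h0 : t * τ ∈ M := mul_mem ht (hVle hτ)
    have hkey : C (b * (t * τ)) ≤ C b ∧ C (b * (t * τ)) ≤ C (t * τ) := by
      have hsub : C (b * (t * τ)) ≤ C (t * τ) := by
        intro g hg
        have e1 := mem_cent_iff_conj.1 hg
        have hd : (t * τ)⁻¹ * (g * (t * τ) * g⁻¹) ∈ V := by
          rw [hVdef]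
          refine mem_inf.2 ⟨M.mul_mem (M.inv_mem h0) (Normal.conj_mem inferInstance _ h0 g), ?_⟩
          have e2 : (t * τ)⁻¹ * (g * (t * τ) * g⁻¹) =
              (t * τ)⁻¹ * ((g * b * g⁻¹)⁻¹ * b) * ((t * τ)⁻¹)⁻¹ := by
            calc (t * τ)⁻¹ * (g * (t * τ) * g⁻¹) =
                (t * τ)⁻¹ * (g * b * g⁻¹)⁻¹ * (g * (b * (t * τ)) * g⁻¹) := by group
              _ = _ := by rw [e1]; group
          rw [e2]
          have hb' : b ∈ normalClosure ({b} : Set G) := subset_normalClosure rfl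
          exact normalClosure_normal.conj_mem _
            (mul_mem (inv_mem (normalClosure_normal.conj_mem _ hb' g)) hb') _
        refine hfix g ?_
        rw [show t⁻¹ * (g * t * g⁻¹) =
          τ * ((t * τ)⁻¹ * (g * (t * τ) * g⁻¹)) * (g * τ⁻¹ * g⁻¹) by group]
        exact mul_mem (mul_mem hτ hd) (hVn.conj_mem _ (inv_mem hτ) g)
      refine ⟨fun g hg => ?_, hsub⟩
      have e1 := mem_cent_iff_conj.1 hg
      have e2 := mem_cent_iff_conj.1 (hsub hg)
      rw [mem_cent_iff_conj]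
      calc g * b * g⁻¹ = g * (b * (t * τ)) * g⁻¹ * (g * (t * τ) * g⁻¹)⁻¹ := by group
        _ = b := by rw [e1, e2, mul_inv_cancel_right]
    obtain ⟨g, hg⟩ := h.conj_into_of_le hp hpm hpx (mem_C_comm.1 hbx) hkey.1 hb
    have hgt : g * x * g⁻¹ ∈ C t := by
      have h1 := hkey.2 hg
      have h2 : g * x * g⁻¹ ∈ C τ :=
        hVX τ hτ _ (Normal.conj_mem (H := normalClosure ({x} : Set G)) normalClosure_normal x
          (subset_normalClosure (Set.mem_singleton x)) g)
      rw [mem_cent] at h1 h2 ⊢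
      rw [mul_assoc t τ, ← h2, ← mul_assoc, ← mul_assoc] at h1
      exact mul_right_cancel h1
    exact htx ((h.comm_conj_iff hx htn g).1 (mem_C_comm.1 hgt))
  -- `C (x * w)` fixes `x` and `w`
  obtain ⟨τ, hτ, hfix⟩ := exists_fixed_mul (center G) inferInstance
    (fun a ha c _ => (mem_center_iff.1 ha c).symm) x
    (by
      obtain ⟨k, hk⟩ := hpx
      rw [hx, hk]
      exact (((Nat.Prime.coprime_iff_not_dvd hp).2 hpm).pow_left k).symm)
    (fun g hg => by
      have hc1 : Commute x (x⁻¹ * (g * x * g⁻¹)) := mem_center_iff.1 hg x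
      have := hc1.mul_pow (orderOf x)
      rwa [mul_inv_cancel_left, pow_orderOf_eq_one, one_mul,
        ← MulAut.conj_apply, ← map_pow, pow_orderOf_eq_one, map_one, eq_comm] at this)
  have hxw : C (x * w) ≤ C x := by
    intro g hg
    have e1 := mem_cent_iff_conj.1 hg
    have hxX : x ∈ X := subset_normalClosure rfl
    have hwW : w ∈ W := subset_normalClosure rfl
    have hcM : x⁻¹ * (g * x * g⁻¹) ∈ M := by
      refine mem_inf.2 ⟨X.mul_mem (X.inv_mem hxX) (normalClosure_normal.conj_mem _ hxX g), ?_⟩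
      rw [show x⁻¹ * (g * x * g⁻¹) = x⁻¹ * (g * (x * w) * g⁻¹) * (g * w⁻¹ * g⁻¹) by group, e1,
        inv_mul_cancel_left]
      exact mul_mem hwW (normalClosure_normal.conj_mem _ (inv_mem hwW) g)
    have hc1 : Commute x (x⁻¹ * (g * x * g⁻¹)) := (mem_cent.1 (hMx hcM)).symm
    have hpc : PElem p (x⁻¹ * (g * x * g⁻¹)) := by
      obtain ⟨k, hk⟩ := hpx
      refine pelem_of_pow_eq_one hp (k := k) ?_
      rw [← hk]
      have := hc1.mul_pow (orderOf x)
      rwa [mul_inv_cancel_left, pow_orderOf_eq_one, one_mul,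
        ← MulAut.conj_apply, ← map_pow, pow_orderOf_eq_one, map_one, eq_comm] at this
    have hcZ : x⁻¹ * (g * x * g⁻¹) ∈ center G := by
      rcases hprimary p hp _ hcM hpc with hh | hh
      · exact hh
      · exact h.central_of_not_dvd hp hpm (hcr.right p _ hp hpc hh) hpc
    have := hfix g hcZ
    have he : C (x * τ) = C x := by rw [mem_center_iff.1 hτ x]; exact cent_mul_central hτ
    rwa [he] at this
  have hxw' : C (x * w) ≤ C w := fun g hg => by
    have e1 := mem_cent_iff_conj.1 hg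
    have e2 := mem_cent_iff_conj.1 (hxw hg)
    rw [mem_cent_iff_conj]
    calc g * w * g⁻¹ = (g * x * g⁻¹)⁻¹ * (g * (x * w) * g⁻¹) := by group
      _ = w := by rw [e1, e2, inv_mul_cancel_left]
  obtain ⟨g, hg⟩ := h.symm.conj_into_of_le hq hqn hqy (mem_C_comm.1 hwy) hxw' hw
  have := h.all_conj_commute hx ((idx_conj g y).trans hy) (hxw hg) g⁻¹
  exact hxy (by simpa [mul_assoc] using this)

/-- Class sizes `{1, m, n, mn}` force nilpotency. -/
theorem nilpotent_and_primePow : Group.IsNilpotent G ∧ IsPrimePow n ∧ IsPrimePow m := by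
  by_cases h1 : ∃ (p : ℕ) (x : G), p.Prime ∧ PElem p x ∧ idx x = m ∧ p ∣ m
  · obtain ⟨p, x, hp, hpx, hx, hpm⟩ := h1
    exact h.nilpotent_of_straight hp hpx hx hpm
  by_cases h2 : ∃ (p : ℕ) (x : G), p.Prime ∧ PElem p x ∧ idx x = n ∧ p ∣ n
  · obtain ⟨p, x, hp, hpx, hx, hpn⟩ := h2
    obtain ⟨a, b, c⟩ := h.symm.nilpotent_of_straight hp hpx hx hpn
    exact ⟨a, c, b⟩
  exact (h.crossed_false ⟨fun r x a b c d => h1 ⟨r, x, a, b, c, d⟩,
    fun r x a b c d => h2 ⟨r, x, a, b, c, d⟩⟩).elim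

end Sizes

end Cfsg.Agent.Lib.FourSizes
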