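import Cfsg.Agent.Lib.FourSizes.Average
import Cfsg.Agent.S4134

/-!
Class sizes `{1, m, n, mn}` with a `p`-element of class size `m` divisible by `p`.
-/

set_option autoImplicit false

namespace Cfsg.Agent.Lib.FourSizes

open Subgroup Cfsg.Agent.Lib.ClassSizeTop

theorem idx_sub {G : Type*} [Group G] (H : Subgroup G) (v : H) :
    idx v = (C (v : G)).relIndex H := by
  show (centralizer ({v} : Set H)).index = ((C (v : G)).subgroupOf H).index
  congr 1
  ext g
  rw [mem_cent, mem_subgroupOf, mem_cent, Subtype.ext_iff, Subgroup.coe_mul, Subgroup.coe_mul]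

theorem mem_of_coprime_index {G : Type*} [Group G] [Finite G] {N : Subgroup G} [N.Normal] {g : G}
    (h : (orderOf g).Coprime N.index) : g ∈ N := by
  rw [← QuotientGroup.eq_one_iff, ← orderOf_eq_one_iff]
  refine Nat.eq_one_of_dvd_coprimes h (orderOf_map_dvd (QuotientGroup.mk' N) g) ?_
  exact orderOf_dvd_natCard _

theorem pelem_of_mem {G : Type*} [Group G] {p : ℕ} [Fact p.Prime] {P : Subgroup G} (hP : IsPGroup p P)
    {v : G} (hv : v ∈ P) : PElem p v := by
  obtain ⟨k, hk⟩ := IsPGroup.iff_orderOf.1 hP ⟨v, hv⟩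
  exact ⟨k, by rw [← Subgroup.orderOf_coe] at hk; exact hk⟩

theorem mem_of_sylow_normal {G : Type*} [Group G] [Finite G] {p : ℕ} [Fact p.Prime] (P : Sylow p G)
    (hP : (P : Subgroup G).Normal) {v : G} (hv : PElem p v) : v ∈ (P : Subgroup G) := by
  obtain ⟨k, hk⟩ := hv
  obtain ⟨Q, hQ⟩ := (IsPGroup.of_card (n := k) (p := p) (G := zpowers v)
    (by rw [Nat.card_zpowers, hk])).exists_le_sylow
  haveI := Sylow.unique_of_normal P hP
  rw [Subsingleton.elim P Q]
  exact hQ (mem_zpowers v)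

theorem pelem_coprime_self {G : Type*} [Group G] {p q : ℕ} (hp : p.Prime) (hq : q.Prime) (hne : p ≠ q)
    {v : G} (hv : PElem q v) : (orderOf v).Coprime p := by
  obtain ⟨k, hk⟩ := hv
  rw [hk]
  exact ((Nat.coprime_primes hq hp).2 hne.symm).pow_left k

section abstractGroup

variable {D : Type*} [Group D] [Finite D] {p : ℕ} [Fact p.Prime]
  (h : ∀ y : D, (orderOf y).Coprime p → ¬ p ∣ idx y)
include h

theorem sylow_normal_of_forall (P : Sylow p D) : (P : Subgroup D).Normal := by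
  rw [← normalizer_eq_top_iff]
  refine ClassSize.eq_top_of_forall_exists_conj_mem _ fun g => ?_
  obtain ⟨u, y, rfl, hc, ⟨k, hu⟩, hy, -, -⟩ := ClassSize.exists_pParts (p := p) g
  obtain ⟨Q, hQ⟩ := ClassSize.exists_sylow_le_centralizer (h y hy)
  obtain ⟨c, hc', hcu⟩ := conj_into_sub (A := (Q : Subgroup D)) (B := C y) ⟨k, hu⟩
    (mem_cent.2 hc.eq)
    (fun hd => Q.not_dvd_index (hd.trans (relIndex_mul_index hQ ▸ dvd_mul_right _ _)))
  obtain ⟨d, rfl⟩ := MulAction.exists_smul_eq D Q P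
  refine ⟨d * c, ?_⟩
  have hy' : y ∈ normalizer ((Q : Subgroup D) : Set D) :=
    ClassSize.centralizer_le_normalizer' _ (by
      rw [mem_centralizer_iff]
      exact fun v hv => mem_cent.1 (hQ hv))
  have h1 : c * (u * y) * c⁻¹ ∈ normalizer ((Q : Subgroup D) : Set D) := by
    rw [show c * (u * y) * c⁻¹ = c * u * c⁻¹ * (c * y * c⁻¹) by group, mem_cent_iff_conj.1 hc']
    exact mul_mem (le_normalizer hcu) hy'
  rw [show d * c * (u * y) * (d * c)⁻¹ = d * (c * (u * y) * c⁻¹) * d⁻¹ by group,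
    mem_normalizer_iff]
  rw [mem_normalizer_iff] at h1
  intro w
  simp only [Sylow.coe_subgroup_smul, Subgroup.mem_pointwise_smul_iff_inv_smul_mem, MulAut.smul_def,
    MulAut.conj_symm_apply, MulAut.conj_apply, MulAut.inv_def]
  rw [h1 (d⁻¹ * w * d)]
  simp [mul_assoc]

theorem comm_of_forall {u v : D} (hu : PElem p u) (hv : (orderOf v).Coprime p) : u ∈ C v := by
  let P : Sylow p D := default
  have hP := sylow_normal_of_forall h P
  obtain ⟨Q, hQ⟩ := ClassSize.exists_sylow_le_centralizer (h v hv)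
  haveI := Sylow.unique_of_normal P hP
  exact hQ (Subsingleton.elim P Q ▸ mem_of_sylow_normal P hP hu)

end abstractGroup

/-- Two class sizes on the elements of order prime to `p`. -/
theorem structure_prime_to {D : Type*} [Group D] [Finite D] {p n : ℕ} [hp : Fact p.Prime] (hn : 1 < n)
    (hpn : ¬ p ∣ n) (h : ∀ y : D, (orderOf y).Coprime p → idx y = 1 ∨ idx y = n)
    (hex : ∃ y : D, (orderOf y).Coprime p ∧ idx y = n) :
    ∃ t a : ℕ, t.Prime ∧ n = t ^ a ∧ t ≠ p ∧
      (∀ q : ℕ, q.Prime → q ≠ p → ∀ y : D, PElem q y → y ∉ center D → q = t) ∧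
      ∃ T : Subgroup D, ∀ v : D, v ∈ T ↔ PElem t v := by
  have hnd : ∀ y : D, (orderOf y).Coprime p → ¬ p ∣ idx y := fun y hy hd => by
    rcases h y hy with e | e <;> rw [e] at hd
    · exact hp.out.not_dvd_one hd
    · exact hpn hd
  obtain ⟨P, N, hN, hcompl⟩ := ClassSize.hasNormalPComplement_of_forall_not_dvd hnd
  haveI := hN
  have hidxN : N.index = Nat.card (P : Subgroup D) := hcompl.symm.index_eq_card
  have hmemN : ∀ y : D, (orderOf y).Coprime p → y ∈ N := fun y hy => by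
    refine mem_of_coprime_index ?_
    obtain ⟨k, hk⟩ := IsPGroup.iff_card.1 P.isPGroup'
    rw [hidxN, hk]
    exact hy.pow_right k
  have hcopN : ∀ k : N, (orderOf (k : D)).Coprime p := fun k => by
    refine Nat.Coprime.coprime_dvd_left (Subgroup.orderOf_coe k ▸ orderOf_dvd_natCard k) ?_
    exact ((Nat.Prime.coprime_iff_not_dvd hp.out).2
      (Transfer.not_dvd_card_of_isComplement' P N hcompl)).symm
  have hidx : ∀ k : N, idx k = idx (k : D) := fun k => by
    rw [idx_sub]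
    have : N ⊔ C (k : D) = ⊤ := by
      rw [eq_top_iff, ← hcompl.sup_eq_top]
      refine sup_le le_sup_left (le_trans (fun u hu => ?_) le_sup_right)
      exact comm_of_forall hnd (pelem_of_mem P.isPGroup' hu) (hcopN k)
    have e1 := relIndex_mul_index (inf_le_right : C (k : D) ⊓ N ≤ N)
    have e2 := relIndex_mul_index (inf_le_left : C (k : D) ⊓ N ≤ C (k : D))
    rw [inf_relIndex_right] at e1
    rw [inf_relIndex_left, ← relIndex_sup_right, sup_comm, this, relIndex_top_right, ← e1,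
      mul_comm] at e2
    exact (Nat.eq_of_mul_eq_mul_right (Nat.pos_of_ne_zero FiniteIndex.index_ne_zero) e2).symm
  obtain ⟨y0, hy0, hy0n⟩ := hex
  obtain ⟨t, ht, a, hna, hstr⟩ := Cfsg.Agent.S4134.result (G := N) n hn
    (fun k => by
      show idx k = 1 ∨ idx k = n
      rw [hidx]
      exact h _ (hcopN k))
    ⟨⟨y0, hmemN y0 hy0⟩, by
      show idx (⟨y0, hmemN y0 hy0⟩ : N) = n
      rw [hidx]; exact hy0n⟩
  have htp : t ≠ p := by
    rintro rfl
    refine hpn (hna ▸ dvd_pow_self _ ?_)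
    rintro rfl
    rw [hna, pow_zero] at hn
    omega
  let P0 : Sylow t N := default
  obtain ⟨hP0, ⟨A, hA, hAc, hAab, hAP⟩, -⟩ := hstr P0
  haveI := hA
  refine ⟨t, a, ht.out, hna, htp, fun q hq hqp y hy hyc => ?_, (P0 : Subgroup N).map N.subtype,
    fun v => ⟨?_, fun hv => ?_⟩⟩
  · by_contra hqt
    let y' : N := ⟨y, hmemN y (pelem_coprime_self hp.out hq (Ne.symm hqp) hy)⟩
    have hyA : y' ∈ A := by
      refine mem_of_coprime_index ?_
      obtain ⟨k, hk⟩ := IsPGroup.iff_card.1 P0.isPGroup'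
      rw [hAc.symm.index_eq_card, hk, Subgroup.orderOf_mk]
      exact (pelem_coprime_self ht.out hq (Ne.symm hqt) hy).pow_right k
    have hcen : C y' = ⊤ := by
      rw [eq_top_iff, ← hAc.sup_eq_top]
      refine sup_le (fun w hw => mem_cent.2 ?_) fun w hw => mem_cent.2 (hAP y' hyA w hw).symm
      exact congrArg Subtype.val (hAab.is_comm.comm ⟨w, hw⟩ ⟨y', hyA⟩)
    refine hyc (idx_eq_one_iff.1 ?_)
    rw [show y = (y' : D) from rfl, ← hidx]
    show (C y').index = 1
    rw [hcen, index_top]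
  · rintro ⟨w, hw, rfl⟩
    obtain ⟨k, hk⟩ := pelem_of_mem P0.isPGroup' hw
    exact ⟨k, (Subgroup.orderOf_coe w).trans hk⟩
  · obtain ⟨k, hk⟩ := hv
    exact ⟨⟨v, hmemN v (pelem_coprime_self hp.out ht.out htp.symm ⟨k, hk⟩)⟩,
      mem_of_sylow_normal P0 hP0 ⟨k, by rw [Subgroup.orderOf_mk, hk]⟩, rfl⟩

namespace Sizes

variable {G : Type*} [Group G] [Finite G] {m n : ℕ} (h : Sizes G m n)
include h

omit [Finite G] in
theorem sub_sizes {p : ℕ} {x : G} (hpx : PElem p x) (hx : idx x = m) (v : C x)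
    (hv : (orderOf v).Coprime p) : idx v = 1 ∨ idx v = n := by
  rw [idx_sub]
  have hcom : Commute x (v : G) := (mem_cent.1 v.2).symm
  have hco : (orderOf x).Coprime (orderOf (v : G)) := by
    obtain ⟨k, hk⟩ := hpx
    rw [hk, Subgroup.orderOf_coe]
    exact hv.symm.pow_left k
  have e : C (x * (v : G)) = C x ⊓ C (v : G) := cent_mul_of_coprime hcom hco
  have e1 := relIndex_mul_index (inf_le_left : C x ⊓ C (v : G) ≤ C x)
  rw [inf_relIndex_left, ← e, show (C x).index = m from hx,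
    show (C (x * (v : G))).index = idx (x * (v : G)) from rfl] at e1
  have := h.one_lt_m; have := h.one_lt_n
  have := h.cop
  rcases h.values (x * (v : G)) with e2 | e2 | e2 | e2 <;> rw [e2] at e1
  · have := Nat.eq_one_of_mul_eq_one_left e1; omega
  · exact Or.inl (Nat.eq_of_mul_eq_mul_right (show 0 < m by omega) (by rw [e1, one_mul]))
  · exfalso
    have := Nat.Coprime.eq_one_of_dvd h.cop (e1 ▸ dvd_mul_left m _)
    omega
  · exact Or.inr (Nat.eq_of_mul_eq_mul_right (show 0 < m by omega) (by rw [e1, mul_comm]))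

theorem straight_comm {p : ℕ} (hp : p.Prime) {x : G} (hpx : PElem p x) (hx : idx x = m) (hpm : p ∣ m)
    {u v : G} (hu : u ∈ C x) (hv : v ∈ C x) (hpu : PElem p u) (hco : (orderOf v).Coprime p) :
    u ∈ C v := by
  haveI := Fact.mk hp
  have hnd : ∀ y : C x, (orderOf y).Coprime p → ¬ p ∣ idx y := fun y hy hd => by
    rcases h.sub_sizes hpx hx y hy with e | e <;> rw [e] at hd
    · exact hp.not_dvd_one hd
    · exact h.not_dvd_both hp hpm hd
  obtain ⟨k, hk⟩ := hpu
  have := comm_of_forall hnd (u := ⟨u, hu⟩) (v := ⟨v, hv⟩) ⟨k, by rw [Subgroup.orderOf_mk, hk]⟩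
    (by rwa [Subgroup.orderOf_mk])
  exact mem_cent.2 (congrArg Subtype.val (mem_cent.1 this))

omit [Finite G] in
theorem relIndex_of_coprime_idx [Finite G] {x y : G} (hx : idx x = m) (hy : idx y = n) :
    (C y).relIndex (C x) = n := by
  have e := relIndex_mul_index (inf_le_left : C x ⊓ C y ≤ C x)
  rw [inf_relIndex_left, index_inf_of_coprime (A := C x) (B := C y)
    (by show (idx x).Coprime (idx y); rw [hx, hy]; exact h.cop)] at e
  rw [show (C x).index = m from hx, show (C y).index = n from hy, mul_comm m n] at e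
  exact Nat.eq_of_mul_eq_mul_right (by have := h.one_lt_m; omega) e

/-- A `p`-element of size `m`, `p ∣ m`, decides the primes of all elements of size `n`. -/
theorem eq_pow_of_straight {p q : ℕ} (hp : p.Prime) (hq : q.Prime) {x y : G} (hpx : PElem p x)
    (hx : idx x = m) (hpm : p ∣ m) (hqy : PElem q y) (hy : idx y = n) :
    ∃ a, n = q ^ a ∧ q ≠ p ∧ ∃ T : Subgroup G, ∀ v : G, v ∈ T ↔ v ∈ C x ∧ PElem q v := by
  haveI := Fact.mk hp
  have hpn : ¬ p ∣ n := h.not_dvd_both hp hpm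
  have hyx : y ∈ C x := mem_C_comm.1 (h.symm.comm_of_prime hp hy hx hpx hpn)
  have hrel := h.relIndex_of_coprime_idx hx hy
  have hne : q ≠ p := by
    rintro rfl
    obtain ⟨r, hr, hrn⟩ := Nat.exists_prime_and_dvd (show n ≠ 1 by have := h.one_lt_n; omega)
    haveI := Fact.mk hr
    have hrq : r ≠ q := by rintro rfl; exact hpn hrn
    refine not_dvd_relIndex_of_forall (K := C x) (L := C y) (fun v hv hrv => ?_) (hrel.symm ▸ hrn)
    exact mem_C_comm.1 (h.straight_comm hp hpx hx hpm hyx hv hqy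
      (pelem_coprime_self hp hr hrq.symm hrv))
  let y' : C x := ⟨y, hyx⟩
  have hy'n : idx y' = n := by rw [idx_sub]; exact hrel
  have hy'co : (orderOf y').Coprime p := by
    rw [Subgroup.orderOf_mk]; exact pelem_coprime_self hp hq hne.symm hqy
  obtain ⟨t, a, -, hna, -, huniq, T, hT⟩ := structure_prime_to h.one_lt_n hpn
    (fun v hv => h.sub_sizes hpx hx v hv) ⟨y', hy'co, hy'n⟩
  obtain ⟨k, hk⟩ := hqy
  have hqt : q = t := huniq q hq hne y' ⟨k, by rw [Subgroup.orderOf_mk, hk]⟩ fun hc => by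
    have := idx_eq_one_iff.2 hc
    have := h.one_lt_n
    omega
  subst hqt
  refine ⟨a, hna, hne, T.map (C x).subtype, fun v => ⟨?_, fun hv => ?_⟩⟩
  · rintro ⟨w, hw, rfl⟩
    obtain ⟨j, hj⟩ := (hT w).1 hw
    exact ⟨w.2, j, (Subgroup.orderOf_coe w).trans hj⟩
  · obtain ⟨hvx, j, hj⟩ := hv
    exact ⟨⟨v, hvx⟩, (hT _).2 ⟨j, by rw [Subgroup.orderOf_mk, hj]⟩, rfl⟩

/-- In the straight case no `q`-element has size `m n`. -/
theorem no_mn {p q : ℕ} (hp : p.Prime) (hq : q.Prime) {x y : G} (hpx : PElem p x) (hx : idx x = m)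
    (hpm : p ∣ m) (hqy : PElem q y) (hy : idx y = n) (hqn : q ∣ n) {u : G} (hqu : PElem q u) :
    idx u ≠ m * n := by
  intro hu
  haveI := Fact.mk hp
  haveI := Fact.mk hq
  have hqm : ¬ q ∣ m := fun hd => h.not_dvd_both hq hd hqn
  obtain ⟨a, hna, hne, T, hT⟩ := h.eq_pow_of_straight hp hq hpx hx hpm hqy hy
  obtain ⟨g, hg⟩ := conj_into hqu (A := C x) (by show ¬ q ∣ idx x; rwa [hx])
  rw [← idx_conj g u] at hu
  replace hqu := pelem_conj hqu g
  generalize g * u * g⁻¹ = w at hu hqu hg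
  obtain ⟨g', hg'⟩ := conj_into hqy (A := C x) (by show ¬ q ∣ idx x; rwa [hx])
  rw [← idx_conj g' y] at hy
  replace hqy := pelem_conj hqy g'
  generalize g' * y * g'⁻¹ = z at hy hqy hg'
  have hwle : C w ≤ C x := h.absorb hu (mem_C_comm.1 hg) (pelem_coprime hq hp hne hqu hpx)
  -- the `p`-elements of the centraliser of `x`
  let S0 : Sylow p (C x) := default
  have hnd : ∀ v : C x, (orderOf v).Coprime p → ¬ p ∣ idx v := fun v hv hd => by
    rcases h.sub_sizes hpx hx v hv with e | e <;> rw [e] at hd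
    · exact hp.not_dvd_one hd
    · exact h.not_dvd_both hp hpm hd
  have hS0n := sylow_normal_of_forall hnd S0
  let S := (S0 : Subgroup (C x)).map (C x).subtype
  have hSp : IsPGroup p S := S0.isPGroup'.map _
  have hSmem : ∀ v, v ∈ C x → PElem p v → v ∈ S := fun v hv ⟨k, hk⟩ =>
    ⟨⟨v, hv⟩, mem_of_sylow_normal S0 hS0n ⟨k, by rw [Subgroup.orderOf_mk, hk]⟩, rfl⟩
  have hSle : S ≤ C x := map_subtype_le _
  have hSz : S ≤ C z := fun v hv => h.straight_comm hp hpx hx hpm (hSle hv) hg'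
    (pelem_of_mem hSp hv) (pelem_coprime_self hp hq hne.symm hqy)
  obtain ⟨R, hR⟩ := (hSp.of_equiv (subgroupOfEquivOfLe hSz).symm).exists_le_sylow
  have hlt : S.subgroupOf (C z) < (R : Subgroup (C z)) := by
    refine lt_of_le_of_ne hR fun e => R.not_dvd_index ?_
    rw [← e]
    have h1 := relIndex_mul_index hSz
    have h2 : p ∣ S.index := hpm.trans (hx ▸ index_dvd_of_le hSle)
    rw [← h1, show (C z).index = n from hy] at h2
    exact (hp.dvd_mul.1 h2).resolve_right (h.not_dvd_both hp hpm)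
  haveI := R.isPGroup'.isNilpotent
  let S1 := (S.subgroupOf (C z)).subgroupOf (R : Subgroup (C z))
  have hgrow := Group.normalizerCondition_of_isNilpotent (G := (R : Subgroup (C z))) S1
    (lt_top_iff_ne_top.2 fun e => hlt.not_ge (subgroupOf_eq_top.1 e))
  obtain ⟨d, hdN, hdS⟩ := SetLike.exists_of_lt hgrow
  let c : G := ((d : C z) : G)
  have hcz : c ∈ C z := (d : C z).2
  have hdp : PElem p c := by
    obtain ⟨k, hk⟩ := pelem_of_mem R.isPGroup' d.2
    exact ⟨k, (Subgroup.orderOf_coe (d : C z)).trans hk⟩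
  have hcS : c ∉ S := fun hh => hdS (by simp only [S1, mem_subgroupOf]; exact hh)
  have hnorm : ∀ v ∈ S, c⁻¹ * v * c ∈ S := by
    intro v hv
    have hv1 : (⟨v, hSz hv⟩ : C z) ∈ (R : Subgroup (C z)) := hR hv
    have := (mem_normalizer_iff.1 (inv_mem hdN) ⟨⟨v, hSz hv⟩, hv1⟩).1
      (by simp only [S1, mem_subgroupOf]; exact hv)
    simp only [S1, mem_subgroupOf] at this
    simpa [c] using this
  -- `c` preserves the `q`-elements centralising `S`
  have hqS : ∀ v ∈ T, ∀ s ∈ S, s ∈ C v := fun v hv s hs =>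
    h.straight_comm hp hpx hx hpm (hSle hs) ((hT v).1 hv).1 (pelem_of_mem hSp hs)
      (pelem_coprime_self hp hq hne.symm ((hT v).1 hv).2)
  have hmove : ∀ v ∈ T, c * v * c⁻¹ ∈ T := by
    intro v hv
    refine (hT _).2 ⟨?_, pelem_conj ((hT v).1 hv).2 c⟩
    have h1 : c⁻¹ * x * c ∈ C v :=
      hqS v hv _ (hnorm x (hSmem x (mem_cent.2 rfl) hpx))
    have := conj_mem_C (g := c) h1
    rw [show c * (c⁻¹ * x * c) * c⁻¹ = x by group] at this
    exact mem_C_comm.1 this
  have hTN : c ∈ normalizer (T : Set G) := by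
    rw [mem_normalizer_iff]
    let f : T → T := fun v => ⟨c * v * c⁻¹, hmove v v.2⟩
    have hf : Function.Surjective f := Finite.surjective_of_injective fun a b e =>
      Subtype.ext (mul_left_cancel (mul_right_cancel (congrArg Subtype.val e)))
    refine fun w => ⟨fun hw => hmove w hw, fun hw => ?_⟩
    obtain ⟨v, hv⟩ := hf ⟨_, hw⟩
    rw [← mul_left_cancel (mul_right_cancel (congrArg Subtype.val hv))]
    exact v.2
  have hTp : IsPGroup q T := IsPGroup.iff_orderOf.2 fun v => by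
    obtain ⟨k, hk⟩ := ((hT v).1 v.2).2
    exact ⟨k, (Subgroup.orderOf_coe v).symm.trans hk⟩
  have hqz : q ∣ n := hqn
  have hcU : c ∈ centralizer ((T ⊓ C z : Subgroup G) : Set G) := by
    rw [mem_centralizer_iff]
    intro v hv
    obtain ⟨hvT, hvz⟩ := mem_inf.1 hv
    exact mem_cent.1 (h.symm.straight_comm hq hqy hy hqn hvz hcz ((hT v).1 hvT).2
      (pelem_coprime_self hq hp hne hdp))
  have hzU : z ∈ T ⊓ C z := ⟨(hT z).2 ⟨hg', hqy⟩, mem_cent.2 rfl⟩
  have hcT := cent_of_fix_selfCentralizing hTp hTN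
    (pelem_coprime_self hq hp hne hdp) (T ⊓ C z) inf_le_left hcU
    fun v hv => ⟨hv.1, mem_cent.2 (mem_centralizer_iff.1 hv.2 z hzU).symm⟩
  have hcw : c ∈ C w := mem_cent.2 (mem_centralizer_iff.1 hcT w ((hT w).2 ⟨hg, hqu⟩)).symm
  exact hcS (hSmem c (hwle hcw) hdp)

theorem pelem_unique {r s : ℕ} (hr : r.Prime) (hs : s.Prime) {a b : ℕ} (hm : 1 < r ^ a)
    (e : r ^ a = s ^ b) : r = s := by
  have ha : a ≠ 0 := by rintro rfl; simp at hm
  exact (Nat.prime_dvd_prime_iff_eq hr hs).1 (hr.dvd_of_dvd_pow (e ▸ dvd_pow_self r ha))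

theorem nilpotent_of_straight {p : ℕ} (hp : p.Prime) {x : G} (hpx : PElem p x) (hx : idx x = m)
    (hpm : p ∣ m) : Group.IsNilpotent G ∧ IsPrimePow n ∧ IsPrimePow m := by
  obtain ⟨q, y, hq, hqy, hy⟩ := h.symm.exists_primary_m
  obtain ⟨a, hna, hne, -⟩ := h.eq_pow_of_straight hp hq hpx hx hpm hqy hy
  have ha : a ≠ 0 := by rintro rfl; have := h.one_lt_n; simp [hna] at this
  have hqn : q ∣ n := hna ▸ dvd_pow_self q ha
  obtain ⟨b, hmb, -, -⟩ := h.symm.eq_pow_of_straight hq hp hqy hy hqn hpx hx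
  have hb : b ≠ 0 := by rintro rfl; have := h.one_lt_m; simp [hmb] at this
  have hcen : ∀ r : ℕ, r.Prime → r ≠ p → r ≠ q → ∀ v : G, PElem r v → v ∈ center G :=
    fun r hr h1 h2 v hv => h.central_of_not_dvd hr
      (fun hd => h1 ((Nat.prime_dvd_prime_iff_eq hr hp).1 (hr.dvd_of_dvd_pow (hmb ▸ hd))))
      (fun hd => h2 ((Nat.prime_dvd_prime_iff_eq hr hq).1 (hr.dvd_of_dvd_pow (hna ▸ hd)))) hv
  have hP : ∀ v : G, PElem p v → v ∈ center G ∨ idx v = m := by
    intro v hv
    rcases h.values v with e | e | e | e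
    · exact Or.inl (idx_eq_one_iff.1 e)
    · exact Or.inr e
    · obtain ⟨c, hc, -, -⟩ := h.eq_pow_of_straight hp hp hpx hx hpm hv e
      exact absurd (pelem_unique h hq hp (hna ▸ h.one_lt_n) (hna.symm.trans hc)) hne
    · exact absurd (e.trans (mul_comm m n)) (h.symm.no_mn hq hp hqy hy hqn hpx hx hpm hv)
  have hQ : ∀ v : G, PElem q v → v ∈ center G ∨ idx v = n := by
    intro v hv
    rcases h.values v with e | e | e | e
    · exact Or.inl (idx_eq_one_iff.1 e)
    · obtain ⟨c, hc, -, -⟩ := h.symm.eq_pow_of_straight hq hq hqy hy hqn hv e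
      exact absurd (pelem_unique h hq hp (hc ▸ h.one_lt_m) (hc.symm.trans hmb)) hne
    · exact Or.inr e
    · exact absurd e (h.no_mn hp hq hpx hx hpm hqy hy hqn hv)
  have hpq : ∀ u v : G, PElem p u → PElem q v → u ∈ C v := by
    intro u v hu hv
    rcases hP u hu with e1 | e1
    · exact mem_cent.2 (mem_center_iff.1 e1 v).symm
    rcases hQ v hv with e2 | e2
    · exact mem_cent.2 (mem_center_iff.1 e2 u)
    exact mem_C_comm.1 (h.comm_of_prime hq e1 e2 hv fun hd => h.not_dvd_both hq hd hqn)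
  have hcomm : ∀ r s : ℕ, r.Prime → s.Prime → r ≠ s → ∀ u v : G, PElem r u → PElem s v → u ∈ C v := by
    intro r s hr hs hrs u v hu hv
    by_cases h1 : r = p
    · subst h1
      by_cases h2 : s = q
      · subst h2; exact hpq u v hu hv
      · exact mem_cent.2 (mem_center_iff.1 (hcen s hs hrs.symm h2 v hv) u)
    by_cases h1' : r = q
    · subst h1'
      by_cases h2 : s = p
      · subst h2; exact mem_C_comm.1 (hpq v u hv hu)
      · exact mem_cent.2 (mem_center_iff.1 (hcen s hs h2 hrs.symm v hv) u)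
    exact mem_cent.2 (mem_center_iff.1 (hcen r hr h1 h1' u hu) v).symm
  refine ⟨?_, ⟨q, a, hq.prime, Nat.pos_of_ne_zero ha, hna.symm⟩,
    ⟨p, b, hp.prime, Nat.pos_of_ne_zero hb, hmb.symm⟩⟩
  rw [(Group.isNilpotent_of_finite_tfae (G := G)).out 0 3 rfl rfl]
  intro r hr P
  rw [← normalizer_eq_top_iff, eq_top_iff]
  refine le_of_not_dvd fun s hs => ?_
  haveI := Fact.mk hs
  rw [relIndex_top_right]
  by_cases hsr : s = r
  · subst hsr
    exact fun hd => P.not_dvd_index (hd.trans (index_dvd_of_le le_normalizer))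
  · refine not_dvd_index_of_forall _ fun v hv => ClassSize.centralizer_le_normalizer' _ ?_
    rw [mem_centralizer_iff]
    exact fun w hw => mem_cent.1 (hcomm r s hr.out hs (Ne.symm hsr) w v (pelem_of_mem P.isPGroup' hw) hv)

end Sizes

end Cfsg.Agent.Lib.FourSizes
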